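import Mathlib
import Cfsg.Prelude.Def_Classical
import Cfsg.Agent.LieClassical.SUBasic
import Cfsg.Agent.ClassicalGeometry.HermParabolic

/-!
# The Siegel parabolic subgroup of a hyperbolic subspace in `PSU_n(q)` (helper363)

`HS hF N` : `SU` of the Gram matrix `JJ` on `F ^ (N + N)`; `exists_hom : HS hF N →* PSU n F q`, `2 N ≤ n`;
`uu`, `gg` : unipotent radical, Levi subgroup.
-/

set_option autoImplicit false
set_option linter.unusedSectionVars false

namespace Cfsg.Agent.H363.UN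

open Matrix Cfsg Cfsg.Agent.LieClassical.HermBasic

section

variable {F : Type*} [Field F] [Fintype F] {q N : ℕ}

/-- the hyperbolic Gram matrix -/
def JJ (F : Type*) [Field F] (N : ℕ) : Matrix (Fin N ⊕ Fin N) (Fin N ⊕ Fin N) F := fromBlocks 0 1 1 0

omit [Fintype F] in
theorem JJ_mul_self : JJ F N * JJ F N = 1 := by
  rw [JJ, fromBlocks_multiply]
  simp

omit [Fintype F] in
theorem JJ_transpose : (JJ F N)ᵀ = JJ F N := by
  rw [JJ, fromBlocks_transpose]
  simp

theorem map_mul' (hF : Fintype.card F = q ^ 2) {l m n : Type*} [Fintype m] (A : Matrix l m F) (B : Matrix m n F) :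
    (A * B).map (conj hF) = A.map (conj hF) * B.map (conj hF) := Matrix.map_mul

theorem map_map' (hF : Fintype.card F = q ^ 2) {l m : Type*} (A : Matrix l m F) :
    (A.map (conj hF)).map (conj hF) = A := ClassicalGeometry.HermParabolic.map_conj_conj hF A

theorem map_one' (hF : Fintype.card F = q ^ 2) {n : Type*} [DecidableEq n] :
    (1 : Matrix n n F).map (conj hF) = 1 := Matrix.map_one _ (map_zero _) (map_one _)

/-- **the hyperbolic frame** -/
theorem exists_frame (hF : Fintype.card F = q ^ 2) (N : ℕ) :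
    ∃ (P Q : Matrix (Fin N ⊕ Fin N) (Fin N ⊕ Fin N) F),
      P * Q = 1 ∧ Q * P = 1 ∧ Pᵀ * P.map (conj hF) = JJ F N := by
  obtain ⟨a, ha⟩ := exists_norm_eq hF (c := -1) (by rw [neg_pow_q hF, one_pow])
  obtain ⟨z, hz, hz1⟩ := LieClassical.SUBasic.exists_norm_one (F := F) hF
  have h0q := zero_pow_q (F := F) hF
  have hz0 : z ≠ 0 := by
    rintro rfl
    rw [zero_pow (by omega)] at hz
    exact zero_ne_one hz
  set b := a * z with hb
  have hbn : b * b ^ q = -1 := by
    rw [hb, mul_pow]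
    rw [pow_succ'] at hz
    linear_combination (z * z ^ q) * ha - hz
  -- `1 + a b̄ ≠ 0`
  have ht : 1 + a * b ^ q ≠ 0 := by
    intro h
    apply hz1
    have h1 : a * a ^ q * z ^ q = -1 := by
      have : a * b ^ q = -1 := by linear_combination h
      rw [hb, mul_pow] at this
      linear_combination this
    rw [ha] at h1
    have h2 : z ^ q = 1 := by linear_combination -h1
    rwa [pow_succ, h2, one_mul] at hz
  set t := 1 + a * b ^ q with ht'
  set s := (t⁻¹) ^ q with hs
  have hsq : s ^ q = t⁻¹ := by rw [hs, pow_q_pow_q hF]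
  have htq : t ^ q = 1 + a ^ q * b := by
    rw [ht', add_pow_q hF, one_pow, mul_pow, pow_q_pow_q hF]
  have hst : s * t ^ q = 1 := by
    rw [hs, ← mul_pow, inv_mul_cancel₀ ht, one_pow]
  set P : Matrix (Fin N ⊕ Fin N) (Fin N ⊕ Fin N) F :=
    fromBlocks ((1 : F) • 1) (s • 1) (a • 1) ((s * b) • 1) with hP
  have hG : Pᵀ * P.map (conj hF) = JJ F N := by
    have h1 : ∀ c : F, (c • (1 : Matrix (Fin N) (Fin N) F)).map (conj hF) = (c ^ q) • 1 := fun c => by
      rw [Matrix.map_smul' _ c _ (_root_.map_mul _), map_one' hF, conj_apply]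
    rw [hP, fromBlocks_transpose, fromBlocks_map, fromBlocks_multiply, JJ, h1, h1, h1, h1]
    simp only [Matrix.transpose_smul, Matrix.transpose_one, Matrix.smul_mul, Matrix.mul_smul, Matrix.mul_one,
      smul_smul, ← add_smul, one_pow]
    congr 1
    · rw [show (1 : F) * 1 + a ^ q * a = 0 by linear_combination ha, zero_smul]
    · rw [show s ^ q * 1 + (s * b) ^ q * a = 1 by
        rw [mul_pow, hsq]
        have : t⁻¹ * t = 1 := inv_mul_cancel₀ ht
        rw [ht'] at this ⊢
        linear_combination this, one_smul]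
    · rw [show (1 : F) * s + a ^ q * (s * b) = 1 by
        rw [htq] at hst
        linear_combination hst, one_smul]
    · rw [show s ^ q * s + (s * b) ^ q * (s * b) = 0 by
        rw [mul_pow]
        linear_combination (s ^ q * s) * hbn, zero_smul]
  set Q : Matrix (Fin N ⊕ Fin N) (Fin N ⊕ Fin N) F := (P.map (conj hF) * JJ F N)ᵀ with hQ
  have hQP : Q * P = 1 := by
    rw [hQ, ← Matrix.transpose_transpose P, ← Matrix.transpose_mul, ← Matrix.mul_assoc]
    rw [Matrix.transpose_transpose, hG, JJ_mul_self, Matrix.transpose_one]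
  exact ⟨P, Q, mul_eq_one_comm.1 hQP, hQP, hG⟩

/-- special isometries of the hyperbolic Gram matrix -/
def HS (hF : Fintype.card F = q ^ 2) (N : ℕ) : Subgroup (Matrix.SpecialLinearGroup (Fin N ⊕ Fin N) F) where
  carrier := {X | (X : Matrix (Fin N ⊕ Fin N) (Fin N ⊕ Fin N) F)ᵀ * JJ F N *
    (X : Matrix (Fin N ⊕ Fin N) (Fin N ⊕ Fin N) F).map (conj hF) = JJ F N}
  one_mem' := by
    rw [Set.mem_ofPred_eq, Matrix.SpecialLinearGroup.coe_one, Matrix.transpose_one, Matrix.one_mul,
      map_one' hF, Matrix.mul_one]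
  mul_mem' := by
    intro X Y hX hY
    rw [Set.mem_ofPred_eq] at hX hY ⊢
    rw [Matrix.SpecialLinearGroup.coe_mul, Matrix.transpose_mul, map_mul' hF]
    calc _ = (Y : Matrix (Fin N ⊕ Fin N) (Fin N ⊕ Fin N) F)ᵀ *
          ((X : Matrix (Fin N ⊕ Fin N) (Fin N ⊕ Fin N) F)ᵀ * JJ F N *
            (X : Matrix (Fin N ⊕ Fin N) (Fin N ⊕ Fin N) F).map (conj hF)) *
          (Y : Matrix (Fin N ⊕ Fin N) (Fin N ⊕ Fin N) F).map (conj hF) := by simp only [Matrix.mul_assoc]
      _ = _ := by rw [hX, hY]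
  inv_mem' := by
    intro X hX
    rw [Set.mem_ofPred_eq] at hX ⊢
    have h1 : (X : Matrix (Fin N ⊕ Fin N) (Fin N ⊕ Fin N) F) * ((X⁻¹ : Matrix.SpecialLinearGroup _ F) :
        Matrix (Fin N ⊕ Fin N) (Fin N ⊕ Fin N) F) = 1 := by
      rw [← Matrix.SpecialLinearGroup.coe_mul, mul_inv_cancel, Matrix.SpecialLinearGroup.coe_one]
    set Y := ((X⁻¹ : Matrix.SpecialLinearGroup _ F) : Matrix (Fin N ⊕ Fin N) (Fin N ⊕ Fin N) F)
    have h2 : Yᵀ * (X : Matrix (Fin N ⊕ Fin N) (Fin N ⊕ Fin N) F)ᵀ = 1 := by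
      rw [← Matrix.transpose_mul, h1, Matrix.transpose_one]
    have h3 : (X : Matrix (Fin N ⊕ Fin N) (Fin N ⊕ Fin N) F).map (conj hF) * Y.map (conj hF) = 1 := by
      rw [← map_mul' hF, h1, map_one' hF]
    calc Yᵀ * JJ F N * Y.map (conj hF) = Yᵀ * ((X : Matrix (Fin N ⊕ Fin N) (Fin N ⊕ Fin N) F)ᵀ * JJ F N *
            (X : Matrix (Fin N ⊕ Fin N) (Fin N ⊕ Fin N) F).map (conj hF)) * Y.map (conj hF) := by rw [hX]
      _ = (Yᵀ * (X : Matrix (Fin N ⊕ Fin N) (Fin N ⊕ Fin N) F)ᵀ) * JJ F N *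
            ((X : Matrix (Fin N ⊕ Fin N) (Fin N ⊕ Fin N) F).map (conj hF) * Y.map (conj hF)) := by
        simp only [Matrix.mul_assoc]
      _ = _ := by rw [h2, h3, Matrix.one_mul, Matrix.mul_one]

/-- the matrix of an element -/
def mt {hF : Fintype.card F = q ^ 2} (X : HS hF N) : Matrix (Fin N ⊕ Fin N) (Fin N ⊕ Fin N) F :=
  ((X : Matrix.SpecialLinearGroup (Fin N ⊕ Fin N) F) : Matrix (Fin N ⊕ Fin N) (Fin N ⊕ Fin N) F)

theorem mt_mul {hF : Fintype.card F = q ^ 2} (X Y : HS hF N) : mt (X * Y) = mt X * mt Y := rfl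

theorem mt_one {hF : Fintype.card F = q ^ 2} : mt (1 : HS hF N) = 1 := rfl

theorem mt_form {hF : Fintype.card F = q ^ 2} (X : HS hF N) : (mt X)ᵀ * JJ F N * (mt X).map (conj hF) = JJ F N := X.2

theorem mt_det {hF : Fintype.card F = q ^ 2} (X : HS hF N) : (mt X).det = 1 :=
  (X : Matrix.SpecialLinearGroup (Fin N ⊕ Fin N) F).2

theorem mt_inj {hF : Fintype.card F = q ^ 2} {X Y : HS hF N} (h : mt X = mt Y) : X = Y :=
  Subtype.ext (Subtype.ext h)

/-- construct elements -/
def mkH (hF : Fintype.card F = q ^ 2) (X : Matrix (Fin N ⊕ Fin N) (Fin N ⊕ Fin N) F) (hd : X.det = 1)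
    (h : Xᵀ * JJ F N * X.map (conj hF) = JJ F N) : HS hF N := ⟨⟨X, hd⟩, h⟩

theorem mt_mkH {hF : Fintype.card F = q ^ 2} {X : Matrix (Fin N ⊕ Fin N) (Fin N ⊕ Fin N) F} {hd : X.det = 1}
    {h : Xᵀ * JJ F N * X.map (conj hF) = JJ F N} : mt (mkH hF X hd h) = X := rfl

/-- **the map to `PSU_n(q)`** -/
theorem exists_hom (hF : Fintype.card F = q ^ 2) {n : ℕ} (hn : 2 * N ≤ n) (hn3 : 3 ≤ n) :
    ∃ φ : HS hF N →* Cfsg.PSU n F q, ∀ X : HS hF N, φ X = 1 →
      ∃ c : F, c ^ (q + 1) = 1 ∧ mt X = c • (1 : Matrix (Fin N ⊕ Fin N) (Fin N ⊕ Fin N) F) := by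
  obtain ⟨P, Q, hPQ, hQP, hG⟩ := exists_frame (F := F) hF N
  have hQJ : Qᵀ * JJ F N * Q.map (conj hF) = 1 := by
    rw [← hG]
    have h1 : Qᵀ * (Pᵀ * P.map (conj hF)) * Q.map (conj hF) =
        (P * Q)ᵀ * (P * Q).map (conj hF) := by
      rw [Matrix.transpose_mul, map_mul' hF]
      simp only [Matrix.mul_assoc]
    rw [h1, hPQ, Matrix.transpose_one, map_one' hF, Matrix.one_mul]
  have hform : ∀ X : Matrix (Fin N ⊕ Fin N) (Fin N ⊕ Fin N) F,
      Xᵀ * JJ F N * X.map (conj hF) = JJ F N → (P * X * Q)ᵀ * (P * X * Q).map (conj hF) = 1 := by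
    intro X hX
    rw [Matrix.transpose_mul, Matrix.transpose_mul, map_mul' hF, map_mul' hF]
    have h1 : Qᵀ * (Xᵀ * Pᵀ) * (P.map (conj hF) * X.map (conj hF) * Q.map (conj hF)) =
        Qᵀ * (Xᵀ * (Pᵀ * P.map (conj hF)) * X.map (conj hF)) * Q.map (conj hF) := by
      simp only [Matrix.mul_assoc]
    rw [h1, hG, hX, hQJ]
  set m := n - 2 * N with hm
  let e : (Fin N ⊕ Fin N) ⊕ Fin m ≃ Fin n := Fintype.equivOfCardEq (by simp; omega)
  -- the embedding
  let Φ : Matrix (Fin N ⊕ Fin N) (Fin N ⊕ Fin N) F → Matrix (Fin n) (Fin n) F := fun X =>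
    Matrix.reindex e e (fromBlocks (P * X * Q) 0 0 1)
  have hΦ1 : Φ 1 = 1 := by
    show Matrix.reindex e e (fromBlocks (P * 1 * Q) 0 0 1) = 1
    rw [Matrix.mul_one, hPQ, fromBlocks_one]
    simp
  have hΦm : ∀ X Y, Φ (X * Y) = Φ X * Φ Y := by
    intro X Y
    show Matrix.reindex e e (fromBlocks (P * (X * Y) * Q) 0 0 1) =
      Matrix.reindex e e (fromBlocks (P * X * Q) 0 0 1) * Matrix.reindex e e (fromBlocks (P * Y * Q) 0 0 1)
    rw [Matrix.reindex_apply, Matrix.reindex_apply, Matrix.reindex_apply, Matrix.submatrix_mul_equiv,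
      fromBlocks_multiply]
    have h1 : P * X * Q * (P * Y * Q) = P * (X * Y) * Q := by
      have : P * X * Q * (P * Y * Q) = P * X * (Q * P) * Y * Q := by simp only [Matrix.mul_assoc]
      rw [this, hQP, Matrix.mul_one, Matrix.mul_assoc P]
    rw [h1]
    simp
  have hΦd : ∀ X, (Φ X).det = X.det := by
    intro X
    show (Matrix.reindex e e (fromBlocks (P * X * Q) 0 0 1)).det = _
    rw [Matrix.det_reindex_self, det_fromBlocks_zero₂₁, Matrix.det_one, mul_one, Matrix.det_conj_of_mul_eq_one hPQ hQP]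
  have hΦu : ∀ X, Xᵀ * JJ F N * X.map (conj hF) = JJ F N → (Φ X)ᵀ * (Φ X).map (conj hF) = 1 := by
    intro X hX
    show (Matrix.reindex e e (fromBlocks (P * X * Q) 0 0 1))ᵀ *
      (Matrix.reindex e e (fromBlocks (P * X * Q) 0 0 1)).map (conj hF) = 1
    rw [Matrix.reindex_apply, Matrix.transpose_submatrix, ← Matrix.submatrix_map, Matrix.submatrix_mul_equiv,
      fromBlocks_transpose, fromBlocks_map, fromBlocks_multiply, hform X hX, map_one' hF]
    simp [Matrix.map_zero _ (map_zero (conj hF)), fromBlocks_one]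
  have hΦs : ∀ X (c : F), Φ X = c • 1 → X = c • 1 := by
    intro X c h
    have h1 : fromBlocks (P * X * Q) 0 0 1 = c • (1 : Matrix ((Fin N ⊕ Fin N) ⊕ Fin m) ((Fin N ⊕ Fin N) ⊕ Fin m) F) := by
      apply (Matrix.reindex e e (α := F)).injective
      change Φ X = _
      rw [h]
      ext i j
      simp [Matrix.one_apply]
    rw [← fromBlocks_one, fromBlocks_smul, fromBlocks_inj] at h1
    have h2 := h1.1
    have h3 : X = Q * (P * X * Q) * P := by
      have : Q * (P * X * Q) * P = (Q * P) * X * (Q * P) := by simp only [Matrix.mul_assoc]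
      rw [this, hQP, Matrix.one_mul, Matrix.mul_one]
    rw [h3, h2, Matrix.mul_smul, Matrix.mul_one, Matrix.smul_mul, hQP]
  have hpres : ∀ (X : HS hF N) (u v : Fin n → F), hermForm n F q (Φ (mt X) *ᵥ u) (Φ (mt X) *ᵥ v) =
      hermForm n F q u v := fun X =>
    (ClassicalGeometry.HermParabolic.preserves_iff hF _).2 (hΦu _ (mt_form X))
  have hdet : ∀ X : HS hF N, (Φ (mt X)).det = 1 := fun X => by rw [hΦd, mt_det]
  let g : HS hF N →* Cfsg.SU n F q :=
    { toFun := fun X => ⟨⟨Φ (mt X), hdet X⟩, hpres X⟩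
      map_one' := by
        apply Subtype.ext
        apply Subtype.ext
        exact hΦ1
      map_mul' := fun X Y => by
        apply Subtype.ext
        apply Subtype.ext
        exact hΦm _ _ }
  refine ⟨(QuotientGroup.mk' (Subgroup.center (Cfsg.SU n F q))).comp g, fun X => ?_⟩
  rw [MonoidHom.comp_apply, QuotientGroup.mk'_apply, QuotientGroup.eq_one_iff,
    LieClassical.SUBasic.mem_center_SU_iff hF hn3]
  rintro ⟨c, h1, h2, h3⟩
  refine ⟨c, h2, hΦs _ c ?_⟩
  have h4 : Φ (mt X) = Matrix.diagonal (fun _ => c) :=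
    congrArg (fun Y : Cfsg.SU n F q => ((Y : Matrix.SpecialLinearGroup (Fin n) F) : Matrix (Fin n) (Fin n) F)) h3
  rw [h4, Matrix.smul_one_eq_diagonal]

/-! ### unipotent and semisimple elements of the Siegel parabolic subgroup -/

/-- skew-hermitian matrices -/
def skw (hF : Fintype.card F = q ^ 2) (N : ℕ) : AddSubgroup (Matrix (Fin N) (Fin N) F) where
  carrier := {S | Sᵀ + S.map (conj hF) = 0}
  zero_mem' := by
    rw [Set.mem_ofPred_eq, Matrix.transpose_zero, Matrix.map_zero _ (map_zero _), add_zero]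
  add_mem' := by
    intro S T hS hT
    rw [Set.mem_ofPred_eq] at hS hT ⊢
    rw [Matrix.transpose_add, Matrix.map_add _ (map_add _), add_add_add_comm, hS, hT, add_zero]
  neg_mem' := by
    intro S hS
    rw [Set.mem_ofPred_eq] at hS ⊢
    rw [Matrix.transpose_neg, Matrix.map_neg _ (map_neg _), ← neg_add, hS, neg_zero]

theorem mem_skw {hF : Fintype.card F = q ^ 2} {S : Matrix (Fin N) (Fin N) F} :
    S ∈ skw hF N ↔ Sᵀ + S.map (conj hF) = 0 := Iff.rfl

/-- the unipotent radical -/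
def uu (hF : Fintype.card F = q ^ 2) (N : ℕ) : Multiplicative (skw hF N) →* HS hF N where
  toFun S := mkH hF (fromBlocks 1 (S.toAdd : Matrix (Fin N) (Fin N) F) 0 1)
    (by rw [Matrix.det_fromBlocks_zero₂₁, Matrix.det_one, mul_one])
    (by
      have h : (S.toAdd : Matrix (Fin N) (Fin N) F).map (conj hF) + (S.toAdd : Matrix (Fin N) (Fin N) F)ᵀ = 0 := by
        rw [add_comm]
        exact mem_skw.1 S.toAdd.2
      rw [JJ, fromBlocks_transpose, fromBlocks_map, fromBlocks_multiply, fromBlocks_multiply]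
      simp only [Matrix.transpose_one, Matrix.transpose_zero, Matrix.map_one _ (map_zero (conj hF)) (map_one _),
        Matrix.map_zero _ (map_zero (conj hF)), Matrix.one_mul, Matrix.mul_one, Matrix.zero_mul, Matrix.mul_zero,
        add_zero, zero_add, h])
  map_one' := by
    apply mt_inj
    rw [mt_mkH, toAdd_one, mt_one]
    exact fromBlocks_one
  map_mul' S T := by
    apply mt_inj
    rw [mt_mul, mt_mkH, mt_mkH, mt_mkH, fromBlocks_multiply, toAdd_mul]
    simp [add_comm]

theorem mt_uu {hF : Fintype.card F = q ^ 2} (S : Multiplicative (skw hF N)) :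
    mt (uu hF N S) = fromBlocks 1 (S.toAdd : Matrix (Fin N) (Fin N) F) 0 1 := rfl

/-- the adjoint -/
def adj (hF : Fintype.card F = q ^ 2) (A : Matrix (Fin N) (Fin N) F) : Matrix (Fin N) (Fin N) F :=
  (A.map (conj hF))ᵀ

theorem adj_mul {hF : Fintype.card F = q ^ 2} (A B : Matrix (Fin N) (Fin N) F) :
    adj hF (A * B) = adj hF B * adj hF A := by
  rw [adj, map_mul' hF, Matrix.transpose_mul, adj, adj]

theorem adj_one {hF : Fintype.card F = q ^ 2} : adj hF (1 : Matrix (Fin N) (Fin N) F) = 1 := by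
  rw [adj, map_one' hF, Matrix.transpose_one]

theorem adj_adj {hF : Fintype.card F = q ^ 2} (A : Matrix (Fin N) (Fin N) F) : adj hF (adj hF A) = A := by
  rw [adj, adj, Matrix.transpose_map, map_map' hF, Matrix.transpose_transpose]

theorem adj_add {hF : Fintype.card F = q ^ 2} (A B : Matrix (Fin N) (Fin N) F) :
    adj hF (A + B) = adj hF A + adj hF B := by
  rw [adj, Matrix.map_add _ (map_add _), Matrix.transpose_add, adj, adj]

theorem adj_smul {hF : Fintype.card F = q ^ 2} (c : F) (A : Matrix (Fin N) (Fin N) F) :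
    adj hF (c • A) = c ^ q • adj hF A := by
  rw [adj, Matrix.map_smul' _ c _ (_root_.map_mul _), Matrix.transpose_smul, adj, conj_apply]

theorem adj_det {hF : Fintype.card F = q ^ 2} (A : Matrix (Fin N) (Fin N) F) : (adj hF A).det = A.det ^ q := by
  rw [adj, Matrix.det_transpose, ← conj_apply hF]
  exact (RingEquiv.map_det (conj hF) _).symm

theorem skw_iff {hF : Fintype.card F = q ^ 2} {S : Matrix (Fin N) (Fin N) F} : S ∈ skw hF N ↔ adj hF S = -S :=
  ClassicalGeometry.HermParabolic.skew_iff hF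

/-- the subgroup of `GL_N` of matrices with determinant in the subfield -/
def GLq (F : Type*) [Field F] (q N : ℕ) : Subgroup (GL (Fin N) F) where
  carrier := {A | (A : Matrix (Fin N) (Fin N) F).det ^ q = (A : Matrix (Fin N) (Fin N) F).det}
  one_mem' := by simp
  mul_mem' := by
    intro A B hA hB
    rw [Set.mem_ofPred_eq] at hA hB ⊢
    rw [Units.val_mul, Matrix.det_mul, mul_pow, hA, hB]
  inv_mem' := by
    intro A hA
    rw [Set.mem_ofPred_eq] at hA ⊢
    have h1 : (A : Matrix (Fin N) (Fin N) F).det * ((A⁻¹ : GL (Fin N) F) : Matrix (Fin N) (Fin N) F).det = 1 := by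
      rw [← Matrix.det_mul, ← Units.val_mul, mul_inv_cancel, Units.val_one, Matrix.det_one]
    have h0 : (A : Matrix (Fin N) (Fin N) F).det ≠ 0 := left_ne_zero_of_mul_eq_one h1
    have h2 := congrArg (fun x => x ^ q) h1
    simp only [mul_pow, hA, one_pow] at h2
    exact mul_left_cancel₀ h0 (h2.trans h1.symm)

theorem mem_GLq {A : GL (Fin N) F} : A ∈ GLq F q N ↔
    (A : Matrix (Fin N) (Fin N) F).det ^ q = (A : Matrix (Fin N) (Fin N) F).det := Iff.rfl

/-- the Levi subgroup -/
def gg (hF : Fintype.card F = q ^ 2) (N : ℕ) : GLq F q N →* HS hF N where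
  toFun A := mkH hF (fromBlocks ((A : GL (Fin N) F) : Matrix (Fin N) (Fin N) F) 0 0
      (adj hF (((A : GL (Fin N) F)⁻¹ : GL (Fin N) F) : Matrix (Fin N) (Fin N) F)))
    (by
      have hA := mem_GLq.1 A.2
      have h1 : ((A : GL (Fin N) F) : Matrix (Fin N) (Fin N) F).det *
          (((A : GL (Fin N) F)⁻¹ : GL (Fin N) F) : Matrix (Fin N) (Fin N) F).det = 1 := by
        rw [← Matrix.det_mul, ← Units.val_mul, mul_inv_cancel, Units.val_one, Matrix.det_one]
      rw [Matrix.det_fromBlocks_zero₂₁, adj_det]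
      have h2 := congrArg (fun x => x ^ q) h1
      simp only [mul_pow, one_pow, hA] at h2
      exact h2)
    (by
      set A' : Matrix (Fin N) (Fin N) F := ((A : GL (Fin N) F) : Matrix (Fin N) (Fin N) F) with hA'
      set A'' : Matrix (Fin N) (Fin N) F := (((A : GL (Fin N) F)⁻¹ : GL (Fin N) F) : Matrix (Fin N) (Fin N) F) with hA''
      have hAA' : A'' * A' = 1 := by rw [hA', hA'', ← Units.val_mul, inv_mul_cancel, Units.val_one]
      have hcAA' : A''.map (conj hF) * A'.map (conj hF) = 1 := by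
        rw [← map_mul' hF, hAA']
        exact map_one' hF
      have htr : A'ᵀ * A''ᵀ = 1 := by rw [← Matrix.transpose_mul, hAA', Matrix.transpose_one]
      have hG : (adj hF A'').map (conj hF) = A''ᵀ := by
        rw [adj, Matrix.transpose_map, map_map' hF]
      have hG' : (adj hF A'')ᵀ = A''.map (conj hF) := by rw [adj, Matrix.transpose_transpose]
      rw [JJ, fromBlocks_transpose, fromBlocks_map, fromBlocks_multiply, fromBlocks_multiply]
      simp only [Matrix.transpose_zero,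
        Matrix.map_zero _ (map_zero (conj hF)), Matrix.mul_one, Matrix.zero_mul, Matrix.mul_zero,
        add_zero, zero_add, hG, hG', hcAA', htr])
  map_one' := by
    apply mt_inj
    rw [mt_mkH, mt_one]
    simp only [Subgroup.coe_one, inv_one, Units.val_one, adj_one]
    exact fromBlocks_one
  map_mul' A B := by
    apply mt_inj
    rw [mt_mul, mt_mkH, mt_mkH, mt_mkH, fromBlocks_multiply]
    simp only [Subgroup.coe_mul, Units.val_mul, _root_.mul_inv_rev, adj_mul, Matrix.mul_zero, Matrix.zero_mul,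
      add_zero, zero_add]

theorem mt_gg {hF : Fintype.card F = q ^ 2} (A : GLq F q N) :
    mt (gg hF N A) = fromBlocks ((A : GL (Fin N) F) : Matrix (Fin N) (Fin N) F) 0 0
      (adj hF (((A : GL (Fin N) F)⁻¹ : GL (Fin N) F) : Matrix (Fin N) (Fin N) F)) := rfl

/-- the action on the unipotent radical -/
theorem gg_uu {hF : Fintype.card F = q ^ 2} (A : GLq F q N) (S : skw hF N) :
    ∃ T : skw hF N, (T : Matrix (Fin N) (Fin N) F) = ((A : GL (Fin N) F) : Matrix (Fin N) (Fin N) F) * S *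
      adj hF ((A : GL (Fin N) F) : Matrix (Fin N) (Fin N) F) ∧
      gg hF N A * uu hF N (Multiplicative.ofAdd S) = uu hF N (Multiplicative.ofAdd T) * gg hF N A := by
  set A' : Matrix (Fin N) (Fin N) F := ((A : GL (Fin N) F) : Matrix (Fin N) (Fin N) F) with hA'
  set A'' : Matrix (Fin N) (Fin N) F := (((A : GL (Fin N) F)⁻¹ : GL (Fin N) F) : Matrix (Fin N) (Fin N) F) with hA''
  have hAA' : A'' * A' = 1 := by rw [hA', hA'', ← Units.val_mul, inv_mul_cancel, Units.val_one]
  have h1 : adj hF A' * adj hF A'' = 1 := by rw [← adj_mul, hAA', adj_one]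
  refine ⟨⟨A' * S * adj hF A', ?_⟩, rfl, ?_⟩
  · rw [skw_iff, adj_mul, adj_mul, adj_adj, skw_iff.1 S.2, Matrix.neg_mul, Matrix.mul_neg, Matrix.mul_assoc]
  · apply mt_inj
    rw [mt_mul, mt_mul, mt_uu, mt_uu, mt_gg, ← hA', ← hA'', fromBlocks_multiply, fromBlocks_multiply]
    simp only [Matrix.mul_one, Matrix.mul_zero, add_zero, toAdd_ofAdd, zero_add, Matrix.one_mul, Matrix.zero_mul]
    rw [Matrix.mul_assoc (A' * _), h1, Matrix.mul_one]

theorem smul_blocks {A B C D : Matrix (Fin N) (Fin N) F} {c : F}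
    (h : fromBlocks A B C D = c • (1 : Matrix (Fin N ⊕ Fin N) (Fin N ⊕ Fin N) F)) :
    A = c • (1 : Matrix (Fin N) (Fin N) F) ∧ B = 0 ∧ C = 0 ∧ D = c • (1 : Matrix (Fin N) (Fin N) F) := by
  rw [← fromBlocks_one, fromBlocks_smul, fromBlocks_inj] at h
  obtain ⟨h1, h2, h3, h4⟩ := h
  exact ⟨h1, by rw [h2, smul_zero], by rw [h3, smul_zero], h4⟩

/-- a matrix acting trivially on the skew-hermitian matrices is scalar -/
theorem scalar_of_fixed {hF : Fintype.card F = q ^ 2} (hN : 1 ≤ N) {A : Matrix (Fin N) (Fin N) F}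
    (h : ∀ S ∈ skw hF N, A * S * adj hF A = S) : ∃ c : F, A = c • 1 := by
  obtain ⟨x, hx⟩ := exists_not_fixed (F := F) hF
  -- every matrix is a combination of skew-hermitian matrices
  have hall : ∀ S : Matrix (Fin N) (Fin N) F, A * S * adj hF A = S := by
    intro S
    have hx0 : x ^ q - x ≠ 0 := sub_ne_zero.2 hx
    have h1 : S - adj hF S ∈ skw hF N := by
      rw [skw_iff, sub_eq_add_neg, adj_add, show -adj hF S = (-1 : F) • adj hF S by rw [neg_one_smul], adj_smul,
        adj_adj, neg_pow_q hF, one_pow, neg_one_smul, neg_one_smul]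
      abel
    have h2 : x • S - x ^ q • adj hF S ∈ skw hF N := by
      rw [skw_iff, sub_eq_add_neg, adj_add, show -(x ^ q • adj hF S) = (-(x ^ q)) • adj hF S by rw [neg_smul], adj_smul,
        adj_smul, adj_adj, neg_pow_q hF, pow_q_pow_q hF, neg_smul, neg_smul]
      abel
    have h3 := h _ h1
    have h4 := h _ h2
    -- `(x ^ q - x) S = x ^ q (S - S*) - (x S - x ^ q S*)`
    have h5 : (x ^ q - x) • S = x ^ q • (S - adj hF S) - (x • S - x ^ q • adj hF S) := by
      rw [sub_smul, smul_sub]; abel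
    have h6 : A * ((x ^ q - x) • S) * adj hF A = (x ^ q - x) • S := by
      rw [h5, Matrix.mul_sub, Matrix.sub_mul, h4, Matrix.mul_smul, Matrix.smul_mul, h3]
    rw [Matrix.mul_smul, Matrix.smul_mul] at h6
    exact smul_right_injective _ hx0 h6
  have h1 : A * adj hF A = 1 := by
    have := hall 1
    rwa [Matrix.mul_one] at this
  have h2 : ∀ S : Matrix (Fin N) (Fin N) F, A * S = S * A := by
    intro S
    have h3 := congrArg (fun Z => Z * A) (hall S)
    rw [Matrix.mul_assoc, mul_eq_one_comm.1 h1, Matrix.mul_one] at h3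
    exact h3
  have h3 : A ∈ Set.center (Matrix (Fin N) (Fin N) F) := by
    rw [Semigroup.mem_center_iff]
    exact fun S => (h2 S).symm
  rw [Matrix.center_eq_range] at h3
  obtain ⟨c, hc⟩ := h3
  refine ⟨c, ?_⟩
  rw [← hc]
  simp [Matrix.smul_one_eq_diagonal]

end

end Cfsg.Agent.H363.UN
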