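import Mathlib
import Cfsg.Agent.H371.FrobCover

/-!
# Fixed vectors of elements of prime order acting on an abelian subgroup (helper363)
-/

set_option autoImplicit false
set_option linter.unusedSectionVars false

namespace Cfsg.Agent.H363.UN

section

variable {H : Type*} [Group H] {V : Type*} [AddCommGroup V]

/-- the action on the multiplicative version -/
def mulAct (φ : H →* AddMonoid.End V) : H →* MulAut (Multiplicative V) where
  toFun h :=
    { toFun := fun v => Multiplicative.ofAdd (φ h v.toAdd)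
      invFun := fun v => Multiplicative.ofAdd (φ h⁻¹ v.toAdd)
      left_inv := fun v => by
        show Multiplicative.ofAdd ((φ h⁻¹ * φ h) v.toAdd) = v
        rw [← map_mul, inv_mul_cancel, map_one]
        rfl
      right_inv := fun v => by
        show Multiplicative.ofAdd ((φ h * φ h⁻¹) v.toAdd) = v
        rw [← map_mul, mul_inv_cancel, map_one]
        rfl
      map_mul' := fun v w => by
        show Multiplicative.ofAdd (φ h (v.toAdd + w.toAdd)) = _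
        rw [map_add]
        rfl }
  map_one' := by
    ext v
    show φ 1 v.toAdd = v.toAdd
    rw [map_one]
    rfl
  map_mul' g h := by
    ext v
    show φ (g * h) v.toAdd = φ g (φ h v.toAdd)
    rw [map_mul]
    rfl

theorem mulAct_apply (φ : H →* AddMonoid.End V) (h : H) (v : Multiplicative V) :
    mulAct φ h v = Multiplicative.ofAdd (φ h v.toAdd) := rfl

/-- commutators with `c` -/
def comSub (U : Subgroup H) (hUc : ∀ a ∈ U, ∀ b ∈ U, a * b = b * a) (c : H) (hn : ∀ a ∈ U, c * a * c⁻¹ ∈ U) :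
    Subgroup H where
  carrier := {u | ∃ x ∈ U, u = c * x * c⁻¹ * x⁻¹}
  one_mem' := ⟨1, U.one_mem, by group⟩
  mul_mem' := by
    rintro _ _ ⟨x, hx, rfl⟩ ⟨y, hy, rfl⟩
    refine ⟨y * x, U.mul_mem hy hx, ?_⟩
    have h1 : x⁻¹ * (c * y * c⁻¹ * y⁻¹) = (c * y * c⁻¹ * y⁻¹) * x⁻¹ :=
      hUc _ (U.inv_mem hx) _ (U.mul_mem (hn y hy) (U.inv_mem hy))
    have h2 : c * x * c⁻¹ * (c * y * c⁻¹) = c * y * c⁻¹ * (c * x * c⁻¹) := hUc _ (hn x hx) _ (hn y hy)
    calc c * x * c⁻¹ * x⁻¹ * (c * y * c⁻¹ * y⁻¹) = c * x * c⁻¹ * (x⁻¹ * (c * y * c⁻¹ * y⁻¹)) := by group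
      _ = c * x * c⁻¹ * ((c * y * c⁻¹ * y⁻¹) * x⁻¹) := by rw [h1]
      _ = (c * x * c⁻¹ * (c * y * c⁻¹)) * (y⁻¹ * x⁻¹) := by group
      _ = (c * y * c⁻¹ * (c * x * c⁻¹)) * (y⁻¹ * x⁻¹) := by rw [h2]
      _ = (c * y * c⁻¹ * (c * x * c⁻¹)) * (x⁻¹ * y⁻¹) := by rw [hUc _ (U.inv_mem hy) _ (U.inv_mem hx)]
      _ = c * (y * x) * c⁻¹ * (y * x)⁻¹ := by group
  inv_mem' := by
    rintro _ ⟨x, hx, rfl⟩
    refine ⟨x⁻¹, U.inv_mem hx, ?_⟩
    have h1 : x * (c * x⁻¹ * c⁻¹) = (c * x⁻¹ * c⁻¹) * x := hUc _ hx _ (hn _ (U.inv_mem hx))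
    calc (c * x * c⁻¹ * x⁻¹)⁻¹ = x * (c * x⁻¹ * c⁻¹) := by group
      _ = (c * x⁻¹ * c⁻¹) * x := h1
      _ = c * x⁻¹ * c⁻¹ * x⁻¹⁻¹ := by group

theorem comSub_le {U : Subgroup H} {hUc : ∀ a ∈ U, ∀ b ∈ U, a * b = b * a} {c : H}
    {hn : ∀ a ∈ U, c * a * c⁻¹ ∈ U} : comSub U hUc c hn ≤ U := by
  rintro _ ⟨x, hx, rfl⟩
  exact U.mul_mem (hn x hx) (U.inv_mem hx)

/-- **Fixed vectors.** -/
theorem exists_fixed [Finite H] [IsSimpleGroup H] [Nontrivial V] {w : ℕ} (hV : ∀ v : V, w • v = 0)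
    (φ : H →* AddMonoid.End V) (U : Subgroup H) (hUc : ∀ a ∈ U, ∀ b ∈ U, a * b = b * a)
    (hUw : (Nat.card U).Coprime w) {c : H} {r : ℕ} (hr : r.Prime) (hc : orderOf c = r)
    (hUr : (Nat.card U).Coprime r) (hn : ∀ a ∈ U, c * a * c⁻¹ ∈ U) (hne : ∃ a ∈ U, c * a ≠ a * c) :
    ∃ v : V, v ≠ 0 ∧ φ c v = v := by
  classical
  by_contra hcon
  push Not at hcon
  have hcr : c ^ r = 1 := by rw [← hc]; exact pow_orderOf_eq_one c
  set W := comSub U hUc c hn with hW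
  have hpow : ∀ j : ℕ, ∀ a ∈ U, c ^ j * a * (c ^ j)⁻¹ ∈ U := by
    intro j
    induction j with
    | zero => intro a ha; simpa using ha
    | succ j ih =>
      intro a ha
      have h1 : c ^ (j + 1) * a * (c ^ (j + 1))⁻¹ = c * (c ^ j * a * (c ^ j)⁻¹) * c⁻¹ := by
        rw [pow_succ']; group
      rw [h1]
      exact hn _ (ih a ha)
  have hinv : ∀ i : ℕ, (c ^ i)⁻¹ = c ^ ((r - 1) * i) := by
    intro i
    apply inv_eq_of_mul_eq_one_right
    have : i + (r - 1) * i = r * i := by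
      obtain ⟨m, hm⟩ : ∃ m, r = m + 1 := ⟨r - 1, by have := hr.pos; omega⟩
      rw [hm, Nat.add_sub_cancel]; ring
    rw [← pow_add, this, pow_mul, hcr, one_pow]
  have hpow' : ∀ i : ℕ, ∀ a ∈ U, (c ^ i)⁻¹ * a * c ^ i ∈ U := by
    intro i a ha
    have h1 : (c ^ i)⁻¹ * a * c ^ i = c ^ ((r - 1) * i) * a * (c ^ ((r - 1) * i))⁻¹ := by
      rw [← hinv, inv_inv]
    rw [h1]
    exact hpow _ a ha
  have hWn : ∀ a ∈ W, ∀ i : ℕ, (c ^ i)⁻¹ * a * c ^ i ∈ W := by
    rintro _ ⟨x, hx, rfl⟩ i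
    refine ⟨(c ^ i)⁻¹ * x * c ^ i, hpow' i x hx, ?_⟩
    have h1 : (c ^ i)⁻¹ * c = c * (c ^ i)⁻¹ := by
      rw [hinv, ← pow_succ, ← pow_succ']
    calc (c ^ i)⁻¹ * (c * x * c⁻¹ * x⁻¹) * c ^ i = ((c ^ i)⁻¹ * c) * x * ((c ^ i)⁻¹ * c)⁻¹ * ((c ^ i)⁻¹ * x⁻¹ * c ^ i) := by
          group
      _ = (c * (c ^ i)⁻¹) * x * (c * (c ^ i)⁻¹)⁻¹ * ((c ^ i)⁻¹ * x⁻¹ * c ^ i) := by rw [h1]
      _ = c * ((c ^ i)⁻¹ * x * c ^ i) * c⁻¹ * ((c ^ i)⁻¹ * x * c ^ i)⁻¹ := by group
  have hWfix : ∀ i, 0 < i → i < r → ∀ a ∈ W, c ^ i * a = a * c ^ i → a = 1 := by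
    rintro i hi0 hi _ ⟨x, hx, rfl⟩ h
    set u := c * x * c⁻¹ * x⁻¹ with hu
    have hcu : Commute (c ^ i) u := h
    -- `c` commutes with `u`
    have hcop : Nat.Coprime (orderOf c) i := by
      rw [hc]
      exact (Nat.Prime.coprime_iff_not_dvd hr).2 (fun h1 => by
        have := Nat.le_of_dvd hi0 h1
        omega)
    obtain ⟨m, hm⟩ := exists_pow_eq_self_of_coprime hcop.symm
    have hcu' : Commute c u := by
      rw [← hm]
      exact hcu.pow_left m
    have h1 : ∀ j : ℕ, u ^ j = c ^ j * x * (c ^ j)⁻¹ * x⁻¹ := by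
      intro j
      induction j with
      | zero => simp
      | succ j ih =>
        have h2 : u = c ^ (j + 1) * x * (c ^ (j + 1))⁻¹ * (c ^ j * x * (c ^ j)⁻¹)⁻¹ := by
          have h3 : c ^ j * u * (c ^ j)⁻¹ = u := by
            rw [(hcu'.pow_left j).eq, mul_assoc, mul_inv_cancel, mul_one]
          rw [← h3, hu]
          rw [pow_succ]
          group
        rw [pow_succ', ih]
        nth_rewrite 1 [h2]
        group
    have h2 := h1 r
    rw [hcr] at h2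
    have h3 : u ^ r = 1 := by rw [h2]; group
    have huU : u ∈ U := U.mul_mem (hn x hx) (U.inv_mem hx)
    have h4 : u ^ Nat.card U = 1 := by
      have h5 : (⟨u, huU⟩ : U) ^ Nat.card U = 1 := pow_card_eq_one'
      exact congrArg (Subtype.val : U → H) h5
    have h5 := pow_gcd_eq_one.2 ⟨h4, h3⟩
    rwa [hUr.gcd_eq_one, pow_one] at h5
  have hWcop : (Nat.card W).Coprime w :=
    Nat.Coprime.coprime_dvd_left (Subgroup.card_dvd_of_le comSub_le) hUw
  have hnorm : ∀ v : Multiplicative V, ∏ i ∈ Finset.range r, mulAct φ (c ^ i) v = 1 := by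
    intro v
    set n := ∏ i ∈ Finset.range r, mulAct φ (c ^ i) v with hn'
    have h1 : mulAct φ c n = n := by
      have h2 : mulAct φ c n = ∏ i ∈ Finset.range r, mulAct φ (c ^ (i + 1)) v := by
        rw [hn', map_prod]
        refine Finset.prod_congr rfl fun i _ => ?_
        rw [pow_succ', map_mul, MulAut.mul_apply]
      have h3 : (∏ i ∈ Finset.range r, mulAct φ (c ^ (i + 1)) v) * mulAct φ (c ^ 0) v =
          (∏ i ∈ Finset.range r, mulAct φ (c ^ i) v) * mulAct φ (c ^ r) v := by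
        rw [← Finset.prod_range_succ' (fun i => mulAct φ (c ^ i) v), Finset.prod_range_succ]
      rw [pow_zero, hcr, mul_left_inj] at h3
      rw [h2, h3]
    by_contra h2
    exact hcon n.toAdd (fun h3 => h2 (Multiplicative.toAdd.injective h3)) (congrArg Multiplicative.toAdd h1)
  have htriv := H371.Frob.trivial_of_norm (mulAct φ) W hr.pos hWn hWfix
    (fun v => by
      apply Multiplicative.toAdd.injective
      rw [toAdd_pow, toAdd_one]
      exact hV _) hWcop hnorm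
  obtain ⟨a, ha, hne⟩ := hne
  have hker : φ.ker = ⊤ := by
    rcases IsSimpleGroup.eq_bot_or_eq_top_of_normal φ.ker inferInstance with h | h
    · exfalso
      have h1 : c * a * c⁻¹ * a⁻¹ ∈ φ.ker := by
        rw [MonoidHom.mem_ker]
        ext v
        exact congrArg Multiplicative.toAdd (htriv _ ⟨a, ha, rfl⟩ (Multiplicative.ofAdd v))
      rw [h, Subgroup.mem_bot] at h1
      apply hne
      have h2 : c * a = (c * a * c⁻¹ * a⁻¹) * (a * c) := by group
      rw [h2, h1, one_mul]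
    · exact h
  obtain ⟨v, hv⟩ := exists_ne (0 : V)
  have h1 : φ c = 1 := by
    rw [← MonoidHom.mem_ker, hker]
    trivial
  exact hcon v hv (by rw [h1]; rfl)

end

end Cfsg.Agent.H363.UN
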